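import Mathlib

/-!
The valuative criterion forces quasi-compactness for morphisms locally of finite type
whose source has finitely many irreducible components: the space of valuation subrings
of the residue field at a generic point containing the base ring is quasi-compact and
maps continuously onto the closure of that point.
-/

open CategoryTheory Limits AlgebraicGeometry TopologicalSpace IsLocalRing

universe u

namespace Groth.Agent.ValQcLib

variable {X Y : Scheme.{u}} (f : X ⟶ Y)

/-- Evaluation of functions on the base at the point `η` upstairs. -/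
noncomputable def baseEval (V : Y.Opens) (η : X) (hη : η ∈ f ⁻¹ᵁ V) :
    Γ(Y, V) ⟶ X.residueField η :=
  f.app V ≫ X.presheaf.germ (f ⁻¹ᵁ V) η hη ≫ X.residue η

variable {f} {V : Y.Opens} {η : X} (hη : η ∈ f ⁻¹ᵁ V)

/-- Centres: points at which the lift over a valuation subring has its closed point. -/
def IsCentre (hV : IsAffineOpen V) (W : ValuationSubring (X.residueField η)) (x : X) : Prop :=
  ∃ (h : ∀ r, (baseEval f V η hη).hom r ∈ W) (l : Spec (.of W) ⟶ X),
    Spec.map (CommRingCat.ofHom (algebraMap W (X.residueField η))) ≫ l =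
      X.fromSpecResidueField η ∧
    l ≫ f = Spec.map (CommRingCat.ofHom
      ((baseEval f V η hη).hom.codRestrict W.toSubring h)) ≫ hV.fromSpec ∧
    l (closedPoint W) = x

lemma commSq (hV : IsAffineOpen V) (W : ValuationSubring (X.residueField η))
    (h : ∀ r, (baseEval f V η hη).hom r ∈ W) :
    X.fromSpecResidueField η ≫ f =
      Spec.map (CommRingCat.ofHom (algebraMap W (X.residueField η))) ≫
        Spec.map (CommRingCat.ofHom ((baseEval f V η hη).hom.codRestrict W.toSubring h)) ≫
          hV.fromSpec := by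
  rw [Scheme.fromSpecResidueField, Category.assoc, ← Scheme.SpecMap_stalkMap_fromSpecStalk,
    ← hV.fromSpecStalk_eq_fromSpecStalk (x := f η) hη, IsAffineOpen.fromSpecStalk,
    ← Spec.map_comp_assoc, ← Spec.map_comp_assoc, ← Spec.map_comp_assoc]
  congr 2
  rw [Scheme.Hom.germ_stalkMap_assoc]
  rfl

lemma exists_centre (hf : ValuativeCriterion f) (hV : IsAffineOpen V)
    (W : ValuationSubring (X.residueField η)) (h : ∀ r, (baseEval f V η hη).hom r ∈ W) :
    ∃ x, IsCentre hη hV W x := by
  obtain ⟨l, h1, h2⟩ := (hf.existence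
    { R := W, K := X.residueField η, commSq := ⟨commSq hη hV W h⟩, .. }).exists_lift
  exact ⟨l (closedPoint W), h, l, h1, h2, rfl⟩

lemma IsCentre.unique (hf : ValuativeCriterion f) {hV : IsAffineOpen V}
    {W : ValuationSubring (X.residueField η)} {x x' : X}
    (hx : IsCentre hη hV W x) (hx' : IsCentre hη hV W x') : x = x' := by
  obtain ⟨h, l, h1, h2, rfl⟩ := hx
  obtain ⟨h', l', h1', h2', rfl⟩ := hx'
  let S : ValuativeCommSq f :=
    { R := W, K := X.residueField η, commSq := ⟨commSq hη hV W h⟩, .. }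
  have := hf.uniqueness S
  have e : (⟨l, h1, h2⟩ : S.commSq.LiftStruct) = ⟨l', h1', h2'⟩ := Subsingleton.elim _ _
  rw [CommSq.LiftStruct.ext_iff] at e
  exact congrArg (fun g : Spec (.of W) ⟶ X => g (closedPoint W)) e

lemma IsCentre.specializes {hV : IsAffineOpen V} {W : ValuationSubring (X.residueField η)}
    {x : X} (hx : IsCentre hη hV W x) : η ⤳ x := by
  obtain ⟨h, l, h1, -, rfl⟩ := hx
  have := (specializes_closedPoint (R := W) (Spec.map (CommRingCat.ofHom
    (algebraMap W (X.residueField η))) (closedPoint (X.residueField η)))).map l.continuous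
  rwa [← Scheme.Hom.comp_apply, h1, Scheme.fromSpecResidueField_apply] at this

lemma IsCentre.mem {hV : IsAffineOpen V} {W : ValuationSubring (X.residueField η)}
    {x : X} (hx : IsCentre hη hV W x) : x ∈ f ⁻¹ᵁ V := by
  obtain ⟨h, l, -, h2, rfl⟩ := hx
  change f (l (closedPoint W)) ∈ V
  rw [← Scheme.Hom.comp_apply, h2, Scheme.Hom.comp_apply, ← SetLike.mem_coe, ← hV.range_fromSpec]
  exact ⟨_, rfl⟩

/-- If the centre lies in an affine open, the valuation ring contains its coordinate ring. -/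
lemma IsCentre.le {hV : IsAffineOpen V} {W : ValuationSubring (X.residueField η)}
    {x : X} (hx : IsCentre hη hV W x) {U : X.Opens} (hU : IsAffineOpen U) (hxU : x ∈ U)
    (hηU : η ∈ U) (b : Γ(X, U)) :
    (X.presheaf.germ U η hηU ≫ X.residue η).hom b ∈ W := by
  obtain ⟨h, l, h1, h2, rfl⟩ := hx
  have hr : Set.range l ⊆ Set.range hU.fromSpec := by
    rw [hU.range_fromSpec]
    rintro _ ⟨p, rfl⟩
    exact ((specializes_closedPoint (R := W) p).map l.continuous).mem_open U.isOpen hxU
  let g := IsOpenImmersion.lift hU.fromSpec l hr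
  have hg : g ≫ hU.fromSpec = l := IsOpenImmersion.lift_fac _ _ _
  have h3 : Spec.map (X.presheaf.germ U η hηU ≫ X.residue η) ≫ hU.fromSpec =
      X.fromSpecResidueField η := by
    rw [Spec.map_comp, Category.assoc, Scheme.fromSpecResidueField]
    congr 1
    exact hU.fromSpecStalk_eq_fromSpecStalk hηU
  have h4 : Spec.map (X.presheaf.germ U η hηU ≫ X.residue η) =
      Spec.map (Spec.preimage g ≫ CommRingCat.ofHom (algebraMap W (X.residueField η))) := by
    rw [← cancel_mono hU.fromSpec, h3, Spec.map_comp, Spec.map_preimage, Category.assoc, hg, h1]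
  rw [Spec.map_injective h4]
  exact ((Spec.preimage g).hom b).2

/-- If the valuation ring contains the coordinate ring of an affine open, the centre is there. -/
lemma IsCentre.mem_of_le (hf : ValuativeCriterion f) {hV : IsAffineOpen V}
    {W : ValuationSubring (X.residueField η)}
    {x : X} (hx : IsCentre hη hV W x) {U : X.Opens} (hU : IsAffineOpen U) (e : U ≤ f ⁻¹ᵁ V)
    (hηU : η ∈ U) (hb : ∀ b, (X.presheaf.germ U η hηU ≫ X.residue η).hom b ∈ W) : x ∈ U := by
  obtain ⟨h, l, h1, h2, rfl⟩ := hx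
  let l' : Spec (.of W) ⟶ X := Spec.map (CommRingCat.ofHom
    ((X.presheaf.germ U η hηU ≫ X.residue η).hom.codRestrict W.toSubring hb)) ≫ hU.fromSpec
  have h1' : Spec.map (CommRingCat.ofHom (algebraMap W (X.residueField η))) ≫ l' =
      X.fromSpecResidueField η := by
    rw [← Category.assoc, ← Spec.map_comp, Scheme.fromSpecResidueField,
      ← hU.fromSpecStalk_eq_fromSpecStalk hηU, IsAffineOpen.fromSpecStalk, ← Category.assoc,
      ← Spec.map_comp]
    rfl
  have h2' : l' ≫ f = Spec.map (CommRingCat.ofHom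
      ((baseEval f V η hη).hom.codRestrict W.toSubring h)) ≫ hV.fromSpec := by
    rw [Category.assoc, ← hV.SpecMap_appLE_fromSpec f hU e, ← Spec.map_comp_assoc]
    congr 2
    ext r
    change (X.presheaf.germ U η hηU ≫ X.residue η).hom ((f.appLE V U e).hom r) = _
    rw [← CommRingCat.comp_apply]
    congr 1
    simp [baseEval, Scheme.Hom.appLE]
  have e1 := IsCentre.unique hη hf (hV := hV) (W := W) (x := l (closedPoint W))
    (x' := l' (closedPoint W)) ⟨h, l, h1, h2, rfl⟩ ⟨h, l', h1', h2', rfl⟩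
  rw [e1, ← SetLike.mem_coe, ← hU.range_fromSpec]
  exact ⟨_, rfl⟩

/-- Every specialization of `η` over `V` is a centre. -/
lemma exists_isCentre (hV : IsAffineOpen V) {x : X} (hx : x ∈ f ⁻¹ᵁ V) (hs : η ⤳ x) :
    ∃ W, IsCentre hη hV W x := by
  obtain ⟨W, hW, hWl⟩ := exists_factor_valuationRing
    (X.presheaf.stalkSpecializes hs ≫ X.residue η).hom
  have key : ∀ (U : X.Opens) (hxU : x ∈ U) (b : Γ(X, U)),
      (X.presheaf.germ U η (hs.mem_open U.isOpen hxU) ≫ X.residue η).hom b ∈ W := by
    intro U hxU b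
    have := hW ((X.presheaf.germ U x hxU).hom b)
    simpa [TopCat.Presheaf.germ_stalkSpecializes_apply] using this
  let α : X.presheaf.stalk x ⟶ .of W :=
    CommRingCat.ofHom ((X.presheaf.stalkSpecializes hs ≫ X.residue η).hom.codRestrict W.toSubring hW)
  refine ⟨W, fun r => key (f ⁻¹ᵁ V) hx ((f.app V).hom r),
    Spec.map α ≫ X.fromSpecStalk x, ?_, ?_, ?_⟩
  · rw [Scheme.fromSpecResidueField, ← Scheme.SpecMap_stalkSpecializes_fromSpecStalk hs,
      ← Spec.map_comp_assoc, ← Spec.map_comp_assoc]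
    rfl
  · rw [Category.assoc, ← Scheme.SpecMap_stalkMap_fromSpecStalk,
      ← hV.fromSpecStalk_eq_fromSpecStalk (x := f x) hx, IsAffineOpen.fromSpecStalk,
      ← Spec.map_comp_assoc, ← Spec.map_comp_assoc]
    congr 2
    rw [Scheme.Hom.germ_stalkMap_assoc]
    ext r
    change (X.residue η).hom ((X.presheaf.stalkSpecializes hs).hom ((X.presheaf.germ (f ⁻¹ᵁ V) x hx).hom ((f.app V).hom r))) = (X.residue η).hom ((X.presheaf.germ (f ⁻¹ᵁ V) η hη).hom ((f.app V).hom r))
    rw [TopCat.Presheaf.germ_stalkSpecializes_apply]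
  · rw [Scheme.Hom.comp_apply]
    have : Spec.map α (closedPoint W) = closedPoint (X.presheaf.stalk x) :=
      comap_closedPoint (S := W)
        ((X.presheaf.stalkSpecializes hs ≫ X.residue η).hom.codRestrict W.toSubring hW)
    rw [this, Scheme.fromSpecStalk_closedPoint]

theorem isCompact_inter_closure [LocallyOfFiniteType f] (hf : ValuativeCriterion f)
    (hV : IsAffineOpen V) (η : X) :
    IsCompact ({x : X | x ∈ f ⁻¹ᵁ V ∧ η ⤳ x}) := by
  classical
  rw [isCompact_iff_ultrafilter_le_nhds]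
  intro F hF
  have hT : {x : X | x ∈ f ⁻¹ᵁ V ∧ η ⤳ x} ∈ F := hF (Filter.mem_principal_self _)
  obtain ⟨x₀, hx₀, hs₀⟩ := F.nonempty_of_mem hT
  have hη : η ∈ f ⁻¹ᵁ V := hs₀.mem_open (f ⁻¹ᵁ V).isOpen hx₀
  choose! W hW using fun x (hx : x ∈ f ⁻¹ᵁ V ∧ η ⤳ x) => exists_isCentre hη hV hx.1 hx.2
  let L : ValuationSubring (X.residueField η) :=
    { carrier := {a | {x | a ∈ W x} ∈ F}
      mul_mem' := fun {a b} ha hb => Filter.mem_of_superset (Filter.inter_mem ha hb)
        fun x hx => (W x).mul_mem _ _ hx.1 hx.2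
      one_mem' := Filter.univ_mem' fun x => (W x).one_mem
      add_mem' := fun {a b} ha hb => Filter.mem_of_superset (Filter.inter_mem ha hb)
        fun x hx => (W x).add_mem _ _ hx.1 hx.2
      zero_mem' := Filter.univ_mem' fun x => (W x).zero_mem
      neg_mem' := fun {a} ha => Filter.mem_of_superset ha fun x hx => (W x).neg_mem _ hx
      mem_or_inv_mem' := fun a => Ultrafilter.union_mem_iff.mp
        (Filter.univ_mem' fun x => (W x).mem_or_inv_mem a) }
  have hL : ∀ r, (baseEval f V η hη).hom r ∈ L := fun r =>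
    Filter.mem_of_superset hT fun x hx => (hW x hx).1 r
  obtain ⟨y, hy⟩ := exists_centre hη hf hV L hL
  refine ⟨y, ⟨hy.mem hη, hy.specializes hη⟩, ?_⟩
  intro N hN
  obtain ⟨O, hON, hO, hyO⟩ := mem_nhds_iff.mp hN
  obtain ⟨U, hU, hyU, hUO⟩ := X.isBasis_affineOpens.exists_subset_of_mem_open
    (show y ∈ O ∩ (f ⁻¹ᵁ V : Set X) from ⟨hyO, hy.mem hη⟩) (hO.inter (f ⁻¹ᵁ V).isOpen)
  obtain ⟨U, hU, rfl⟩ := hU
  have e : U ≤ f ⁻¹ᵁ V := fun z hz => (hUO hz).2
  have hηU : η ∈ U := (hy.specializes hη).mem_open U.isOpen hyU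
  let ψ := (X.presheaf.germ U η hηU ≫ X.residue η).hom
  have hft := f.finiteType_appLE hV hU e
  algebraize [(f.appLE V U e).hom]
  obtain ⟨s, hs⟩ := Algebra.FiniteType.out (R := Γ(Y, V)) (A := Γ(X, U))
  have hmem : {x | (x ∈ f ⁻¹ᵁ V ∧ η ⤳ x) ∧ ∀ b ∈ s, ψ b ∈ W x} ∈ F := by
    refine Filter.inter_mem hT ?_
    have : (⋂ b ∈ s, {x | ψ b ∈ W x}) ∈ F := by
      exact (Filter.biInter_finset_mem s).mpr fun b _ => hy.le hη hU hyU hηU b
    exact Filter.mem_of_superset this fun x hx => Set.mem_iInter₂.mp hx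
  refine Filter.mem_of_superset hmem fun x hx => hON (hUO ?_).1
  refine (hW x hx.1).mem_of_le hη hf hU e hηU fun b => ?_
  have hb : b ∈ Algebra.adjoin Γ(Y, V) (s : Set Γ(X, U)) := hs ▸ Algebra.mem_top
  induction hb using Algebra.adjoin_induction with
  | mem b hb => exact hx.2 b hb
  | algebraMap r =>
    have : (X.presheaf.germ U η hηU ≫ X.residue η).hom ((f.appLE V U e).hom r) =
        (baseEval f V η hη).hom r := by
      rw [← CommRingCat.comp_apply]
      congr 1
      simp [baseEval, Scheme.Hom.appLE]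
    change (X.presheaf.germ U η hηU ≫ X.residue η).hom ((f.appLE V U e).hom r) ∈ W x
    rw [this]
    exact (hW x hx.1).1 r
  | add a b _ _ ha hb => rw [map_add]; exact (W x).add_mem _ _ ha hb
  | mul a b _ _ ha hb => rw [map_mul]; exact (W x).mul_mem _ _ ha hb

theorem quasiCompact [LocallyOfFiniteType f] (hf : ValuativeCriterion f)
    (hX : (irreducibleComponents ↥X).Finite) : QuasiCompact f := by
  rw [quasiCompact_iff_forall_isAffineOpen]
  intro V hV
  have hunion : (f ⁻¹ᵁ V : Set X) = ⋃ Z ∈ irreducibleComponents ↥X, (f ⁻¹ᵁ V : Set X) ∩ Z := by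
    rw [← Set.inter_iUnion₂, ← Set.sUnion_eq_biUnion, sUnion_irreducibleComponents,
      Set.inter_univ]
  rw [show IsCompact (f ⁻¹ᵁ V : Set X) ↔ _ from iff_of_eq (congrArg IsCompact hunion)]
  refine hX.isCompact_biUnion fun Z hZ => ?_
  have hg := hZ.1.isGenericPoint_genericPoint (isClosed_of_mem_irreducibleComponents Z hZ)
  convert isCompact_inter_closure (f := f) hf hV hZ.1.genericPoint using 1
  ext x
  simp [hg.specializes_iff_mem]

end Groth.Agent.ValQcLib
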